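import Groth.Agent.H17.UnibranchNormalization

/-!
Normalization of a geometrically unibranch integral scheme in a purely inseparable extension of its
function field is a universal homeomorphism.
-/

set_option autoImplicit false
set_option linter.style.haveILetI false
set_option backward.isDefEq.respectTransparency false
universe u

open CategoryTheory CategoryTheory.Limits AlgebraicGeometry

namespace Groth.Agent.H18InsepNorm

variable (Y : Scheme.{u}) [IsIntegral Y] (L : Type u) [Field L] [Algebra Y.functionField L]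

/-- `Spec L ⟶ Spec K ⟶ Y`. -/
noncomputable abbrev gL : Spec (CommRingCat.of L) ⟶ Y :=
  Spec.map (CommRingCat.ofHom (algebraMap Y.functionField L)) ≫ Y.fromSpecStalk (genericPoint Y)

variable [QuasiCompact (gL Y L)] [QuasiSeparated (gL Y L)]

theorem exists_obj_iso {U : Y.Opens} (hU : IsAffineOpen U) [Nonempty U] [Algebra Γ(Y, U) L]
    [IsScalarTower Γ(Y, U) Y.functionField L] :
    ∃ φ : integralClosure Γ(Y, U) L ≃+* Γ((gL Y L).normalization, (gL Y L).fromNormalization ⁻¹ᵁ U),
      ∀ b, φ (algebraMap _ _ b) = (gL Y L).fromNormalization.app U b := by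
  have hgen : genericPoint Y ∈ U :=
    ((genericPoint_spec Y).mem_open_set_iff U.isOpen).mpr (by simpa using ‹Nonempty U›)
  have htop : (gL Y L) ⁻¹ᵁ U = ⊤ := by
    rw [eq_top_iff]
    intro z _
    have hz : (gL Y L) z ∈ Set.range (Y.fromSpecStalk (genericPoint Y)) :=
      ⟨(Spec.map (CommRingCat.ofHom (algebraMap Y.functionField L))) z, rfl⟩
    rw [Scheme.range_fromSpecStalk] at hz
    exact (hz : (gL Y L) z ⤳ genericPoint Y).mem_open U.isOpen hgen
  letI := ((gL Y L).app U).hom.toAlgebra
  let ψ : CommRingCat.of L ⟶ Γ(Spec (CommRingCat.of L), (gL Y L) ⁻¹ᵁ U) :=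
    (Scheme.ΓSpecIso (CommRingCat.of L)).inv ≫
      (Spec (CommRingCat.of L)).presheaf.map (homOfLE le_top).op
  haveI : IsIso ψ := by
    have : IsIso (homOfLE (le_top : (gL Y L) ⁻¹ᵁ U ≤ ⊤)) := ⟨homOfLE htop.ge, rfl, rfl⟩
    infer_instance
  have happ : (gL Y L).app U =
      Y.presheaf.germ U (genericPoint Y) hgen ≫
        CommRingCat.ofHom (algebraMap Y.functionField L) ≫ ψ := by
    rw [Scheme.Hom.comp_app, Scheme.fromSpecStalk_app hgen, Category.assoc, Category.assoc]
    congr 1
    simp only [ψ]
    rw [Scheme.Hom.naturality]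
    exact (Scheme.ΓSpecIso_inv_naturality_assoc _ _).symm
  let e : L ≃ₐ[Γ(Y, U)] Γ(Spec (CommRingCat.of L), (gL Y L) ⁻¹ᵁ U) :=
    AlgEquiv.ofRingEquiv (f := (asIso ψ).commRingCatIsoToRingEquiv) (fun b => by
      show ψ.hom (algebraMap Γ(Y, U) L b) = (gL Y L).app U b
      rw [happ, IsScalarTower.algebraMap_apply Γ(Y, U) Y.functionField L]
      rfl)
  refine ⟨e.mapIntegralClosure.toRingEquiv.trans
    ((gL Y L).normalizationObjIso hU).symm.commRingCatIsoToRingEquiv, fun b => ?_⟩
  show ((gL Y L).normalizationObjIso hU).inv.hom (e.mapIntegralClosure (algebraMap _ _ b)) =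
    (gL Y L).fromNormalization.app U b
  rw [(gL Y L).fromNormalization_app hU, AlgEquiv.commutes]
  rfl

/-- Two points with the same image correspond to two ring maps. -/
lemma exists_ringHom {N : Scheme.{u}} (ν : N ⟶ Y) [IsAffineHom ν] {U : Y.Opens} (hU : IsAffineOpen U)
    {M : Type u} [Field M] (c : Spec (.of M) ⟶ N) (hc : c ≫ ν ≫ 𝟙 Y = c ≫ ν)
    (hmem : (c ≫ ν) (IsLocalRing.closedPoint M) ∈ U) :
    ∃ ψ : Γ(N, ν ⁻¹ᵁ U) ⟶ CommRingCat.of M,
      Spec.map ψ ≫ (hU.preimage ν).fromSpec = c := by
  have hsub : Set.range c ⊆ Set.range (hU.preimage ν).fromSpec := by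
    rw [IsAffineOpen.range_fromSpec]
    rintro _ ⟨z, rfl⟩
    obtain rfl : z = IsLocalRing.closedPoint M := Subsingleton.elim _ _
    exact hmem
  exact ⟨Spec.preimage (IsOpenImmersion.lift (hU.preimage ν).fromSpec c hsub), by
    rw [Spec.map_preimage, IsOpenImmersion.lift_fac]⟩

theorem isUnivHomeo_fromNormalization [IsPurelyInseparable Y.functionField L]
    [QuasiCompact (Y.fromSpecStalk (genericPoint ↥Y))] [QuasiSeparated (Y.fromSpecStalk (genericPoint ↥Y))]
    (hY : ∀ y : Y, CAlg2.IsGeomUnibranch (Y.presheaf.stalk y)) :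
    FlatMor.IsUnivHomeo (gL Y L).fromNormalization := by
  classical
  have hι := H17.UnibranchNormalization.isUnivHomeo_normalizationι Y hY
  rw [H7Flat.isUnivHomeo_iff] at hι ⊢
  have hinj := ((tfae_universallyInjective _).out 0 1).1 hι.2.1
  haveI hιint : IsIntegralHom (Curv2.normalizationι Y) := hι.1
  haveI hLint : IsIntegralHom (gL Y L).fromNormalization := inferInstance
  refine ⟨hLint, ?_, ⟨fun z => ?_⟩⟩
  · refine ((tfae_universallyInjective _).out 0 1).2 fun M hM a b hab => ?_
    letI := hM
    change a ≫ (gL Y L).fromNormalization = b ≫ (gL Y L).fromNormalization at hab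
    obtain ⟨U, hU, hxU, -⟩ := exists_isAffineOpen_mem_and_subset
      (Set.mem_univ ((a ≫ (gL Y L).fromNormalization) (IsLocalRing.closedPoint M))) (U := (⊤ : Y.Opens))
    haveI : Nonempty U := ⟨⟨_, hxU⟩⟩
    letI : Algebra Γ(Y, U) L :=
      ((algebraMap Y.functionField L).comp (algebraMap Γ(Y, U) Y.functionField)).toAlgebra
    haveI : IsScalarTower Γ(Y, U) Y.functionField L := IsScalarTower.of_algebraMap_eq fun _ => rfl
    obtain ⟨α, rfl⟩ := exists_ringHom Y _ hU a (by rw [Category.comp_id]) hxU
    obtain ⟨β, rfl⟩ := exists_ringHom Y _ hU b (by rw [Category.comp_id]) (hab ▸ hxU)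
    congr 2
    let U' := hU.preimage (gL Y L).fromNormalization
    simp only [Category.assoc, ← hU.SpecMap_appLE_fromSpec _ U' le_rfl, ← Spec.map_comp_assoc,
      cancel_mono] at hab
    have hαβ := Spec.map_injective hab
    rw [← Scheme.Hom.app_eq_appLE] at hαβ
    obtain ⟨Φ, hΦ⟩ := exists_obj_iso Y L hU
    obtain ⟨θ, hθ⟩ := H22Alg.NormalizationDimOne.exists_obj_iso Y hU
    let inc : Y.functionField →ₐ[Γ(Y, U)] L := IsScalarTower.toAlgHom _ _ _
    let j : integralClosure Γ(Y, U) Y.functionField →+* integralClosure Γ(Y, U) L :=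
      (inc.mapIntegralClosure).toRingHom
    let φ₁ := (α.hom.comp Φ.toRingHom)
    let φ₂ := (β.hom.comp Φ.toRingHom)
    have hA : ∀ c : Γ(Y, U), φ₁ (algebraMap _ _ c) = φ₂ (algebraMap _ _ c) := fun c => by
      show α (Φ (algebraMap _ _ c)) = β (Φ (algebraMap _ _ c))
      rw [hΦ]
      exact congr($hαβ c)
    -- equality on the integral closure in the function field
    have hK : φ₁.comp j = φ₂.comp j := by
      let V' := hU.preimage (Curv2.normalizationι Y)
      let pt : (integralClosure Γ(Y, U) Y.functionField →+* M) →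
          (Spec (.of M) ⟶ Curv2.normalization Y) := fun φ =>
        Spec.map (CommRingCat.ofHom (φ.comp θ.symm.toRingHom)) ≫ V'.fromSpec
      have hpt : ∀ φ, pt φ ≫ Curv2.normalizationι Y =
          Spec.map (CommRingCat.ofHom (φ.comp (algebraMap Γ(Y, U) _))) ≫ hU.fromSpec := fun φ => by
        simp only [pt, Category.assoc, ← hU.SpecMap_appLE_fromSpec _ V' le_rfl, ← Spec.map_comp_assoc]
        congr 2
        rw [← Scheme.Hom.app_eq_appLE]
        ext c
        show φ (θ.symm _) = φ (algebraMap _ _ c)
        exact congrArg φ (θ.symm_apply_eq.2 (hθ c).symm)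
      have heq : pt (φ₁.comp j) = pt (φ₂.comp j) := hinj M (by
        show pt _ ≫ _ = pt _ ≫ _
        rw [hpt, hpt]
        congr 3
        ext c
        show φ₁ (j (algebraMap _ _ c)) = φ₂ (j (algebraMap _ _ c))
        rw [show j (algebraMap _ _ c) = algebraMap _ _ c from inc.mapIntegralClosure.commutes c, hA])
      simp only [pt, cancel_mono] at heq
      have := Spec.map_injective heq
      ext c
      have := congr($this (θ c))
      simpa using this
    suffices φ₁ = φ₂ by
      ext c
      obtain ⟨c, rfl⟩ := Φ.surjective c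
      exact congr($this c)
    obtain ⟨q, hq⟩ := ExpChar.exists Y.functionField
    haveI := hq
    ext c
    obtain ⟨n, d, hd⟩ := IsPurelyInseparable.pow_mem Y.functionField q (c : L)
    have hdint : IsIntegral Γ(Y, U) d := by
      rw [← isIntegral_algebraMap_iff (B := L) (algebraMap Y.functionField L).injective, hd]
      exact c.2.pow _
    have h : φ₁ (c ^ q ^ n) = φ₂ (c ^ q ^ n) := by
      rw [show c ^ q ^ n = j ⟨d, hdint⟩ from Subtype.ext hd.symm]
      exact congr($hK ⟨d, hdint⟩)
    rw [map_pow, map_pow] at h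
    obtain _ | hp := hq
    · simpa using h
    · haveI : CharP Y.functionField q := ‹_›
      haveI : CharP M q := by
        refine (CharP.charP_iff_prime_eq_zero hp).2 ?_
        have h0 : (q : Γ(Y, U)) = 0 :=
          germ_injective_of_isIntegral Y (genericPoint Y) (((genericPoint_spec Y).mem_open_set_iff U.isOpen).mpr (by simpa using ‹Nonempty U›)) (by simp)
        have := congrArg (fun c => φ₁ (algebraMap _ _ c)) h0
        simpa using this
      haveI : ExpChar M q := ExpChar.prime hp
      exact iterateFrobenius_inj M q n h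
  · have hcl : IsClosed (Set.range (gL Y L).fromNormalization) :=
      (gL Y L).fromNormalization.isClosedMap.isClosed_range
    have hη : genericPoint Y ∈ Set.range (gL Y L).fromNormalization := by
      refine ⟨(gL Y L).toNormalization (IsLocalRing.closedPoint L), ?_⟩
      rw [← Scheme.Hom.comp_apply, Scheme.Hom.toNormalization_fromNormalization, Scheme.Hom.comp_apply,
        Subsingleton.elim ((Spec.map (CommRingCat.ofHom (algebraMap Y.functionField L)))
          (IsLocalRing.closedPoint L)) (IsLocalRing.closedPoint _)]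
      exact Scheme.fromSpecStalk_closedPoint
    exact (genericPoint_specializes z).mem_closed hcl hη

end Groth.Agent.H18InsepNorm
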